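import Cfsg.Agent.Lib.OTI.Bas
import Cfsg.Agent.S1911
import Cfsg.Agent.Lib.BCor.Str
import Cfsg.Agent.Lib.BenderRed.Final
import Cfsg.Agent.Lib.Recog.SpecSplit
import Cfsg.Agent.Lib.FT.OddOrder

/-! Package SOL: `|K|` odd makes `N x` solvable.  See `plans/OTI.md`. -/

set_option autoImplicit false
set_option linter.unusedSectionVars false

namespace CfsgLib.OTI

open Subgroup MulAction CfsgLib.Perm CfsgLib.HKS
open scoped commutatorElement

universe u

variable {G : Type u} [Group G] [Finite G] {X : Type u} [Finite X] [MulAction G X]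
  {N : X → Subgroup G} {x y : X}

theorem sol_se {G : Type u} [Group G] [Finite G] (h2 : Bender.Rank2 G) {H : Subgroup G}
    (hH : Cfsg.IsStronglyEmbedded H) : Group.IsSolvable H := by
  obtain ⟨S, L, h⟩ := BCor.exists_str_quot BenderRed.benderSimple hH h2
  have := h.isSolvable
  have : Group.IsSolvable ((Cfsg.pPrimeCore 2 G).subgroupOf H) := FT.odd_subgroup_solvable
    ((Core.odd_card_oddCore G).of_dvd_nat (card_comap_dvd_of_injective _ _ H.subtype_injective))
  refine Group.isSolvable_of_ker_le_range ((Cfsg.pPrimeCore 2 G).subgroupOf H).subtype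
    ((QuotientGroup.mk' (Cfsg.pPrimeCore 2 G)).subgroupMap H) fun d hd => ?_
  rw [range_subtype]
  exact (QuotientGroup.eq_one_iff (d : G)).1 (congrArg Subtype.val hd)

theorem sol_map (h : StabTI N) (g : G) : (N x).map (MulAut.conj g).toMonoidHom = N (g • x) := by
  ext n
  constructor
  · rintro ⟨m, hm, rfl⟩
    exact h.conj g hm
  · intro hn
    refine ⟨g⁻¹ * n * g⁻¹⁻¹, ?_, by simp [mul_assoc]⟩
    simpa using h.conj g⁻¹ hn

theorem solvable_of_odd (h : StabTI N) (hxy : x ≠ y) (ho : Odd (Nat.card (Kp N x y))) :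
    Group.IsSolvable (N x) := by
  rcases Nat.even_or_odd (Nat.card (N x)) with he | he
  swap
  · exact FT.odd_subgroup_solvable he
  have hn := normalizer_eq h hxy
  have hT : Cfsg.IsTightlyEmbedded (N x) := by
    refine ⟨he, fun g hg => ?_⟩
    rw [hn, mem_stabilizer_iff] at hg
    have : N x ⊓ (N x).map (MulAut.conj g).toMonoidHom = ⊥ := by
      rw [sol_map h, eq_bot_iff]
      exact fun n hn => h.ti (Ne.symm hg) hn.1 hn.2
    rw [this, card_bot]
    exact odd_one
  rcases Cfsg.Agent.S1911.result (N x) hT (fun g hg => by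
    rw [hn, mem_stabilizer_iff] at hg
    rw [hn, sol_map h, ← card_Kp h hxy hg]
    exact ho) with h1 | h1
  · obtain ⟨g, hg, -⟩ := h.two hxy hxy.symm
    have : g ∈ normalizer (N x : Set G) := by rw [normalizer_eq_top]; trivial
    rw [hn, mem_stabilizer_iff, hg] at this
    exact absurd this.symm hxy
  set G₀ := normalClosure (N x : Set G) with hG₀
  by_cases h2 : Bender.Rank2 G₀
  · have := sol_se h2 h1
    let f : N x →* (normalizer (N x : Set G)).subgroupOf G₀ :=
      { toFun := fun n => ⟨⟨n, subset_normalClosure n.2⟩, le_normalizer n.2⟩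
        map_one' := rfl
        map_mul' := fun _ _ => rfl }
    exact Group.isSolvable_of_isSolvable_injective (f := f) fun a b e =>
      Subtype.ext (congrArg (fun z => ((z : (normalizer (N x : Set G)).subgroupOf G₀) : G₀).1) e)
  · exfalso
    have hO : Cfsg.pPrimeCore 2 G₀ ≠ ⊥ := fun e => h1.1 (by
      have := BCor.sup_eq_top_of_not_rank2 h2 h1
      rwa [e, bot_sup_eq] at this)
    have := Core.map_pPrimeCore_normal (p := 2) G₀
    obtain ⟨A, hA, hA0, -, hc⟩ := Recog.exists_abelian_normal_of_solvable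
      ((Cfsg.pPrimeCore 2 G₀).map G₀.subtype)
      (fun e => hO ((map_eq_bot_iff_of_injective _ G₀.subtype_injective).1 e))
      (FT.odd_order_solvable (by
        rw [card_map_of_injective G₀.subtype_injective]
        exact Nat.coprime_two_right.1 (Core.coprime_card_pPrimeCore 2 G₀)))
    exact no_rns h A hA0 hc

end CfsgLib.OTI
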