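import Cfsg.Agent.Lib.OTI.MFb
import Cfsg.Agent.Lib.HKS.OddN
import Cfsg.Agent.S1911
import Cfsg.Agent.S1124
import Cfsg.Agent.S1126
import Cfsg.Agent.S1131

/-! Package MFO: odd degree.  See `plans/OTI.md`. -/

set_option autoImplicit false

namespace CfsgLib.OTI

open Subgroup MulAction CfsgLib.Perm CfsgLib.HKS
open scoped commutatorElement

universe u

variable {G : Type u} [Group G] [Finite G] {X : Type u} [Finite X] [MulAction G X]
  {Q : X → Subgroup G} {x y : X} {k l : G} {p : ℕ} {S : Set G}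

theorem MF.odd (h : MF Q x y k l p) (ho : Odd (Nat.card X)) : False := by
  obtain ⟨w, wx, wy⟩ := h.three
  have hne := h.ne
  have third : ∀ a c : X, ∃ d, d ≠ a ∧ d ≠ c := fun a c => by
    by_contra k
    push Not at k
    have f : ∀ d, d = a ∨ d = c := fun d => or_iff_not_imp_left.2 (k d)
    rcases f x with e1 | e1 <;> rcases f y with e2 | e2 <;> rcases f w with e3 | e3 <;>
      first | exact hne (e1.trans e2.symm) | exact wx (e3.trans e1.symm) | exact wy (e3.trans e2.symm)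
  set N := normalClosure (Q x : Set G) with hN
  have QN : ∀ c, Q c ≤ N := fun c b hb => by
    obtain ⟨d, h1, h2⟩ := third x c
    obtain ⟨a, -, e⟩ := h.trans d c x h2.symm h1.symm
    exact (normalClosure_normal.mem_comm_iff.1 (subset_normalClosure (e ▸ h.conj a c b hb)) :
      a⁻¹ * (a * b) ∈ N) |> fun m => by simpa using m
  have two : ∀ {a b c d : X}, a ≠ b → c ≠ d → ∃ g : N, g • a = c ∧ g • b = d := fun {a b c d} h1 h2 => by
    obtain ⟨e, h3, h4⟩ := third a c
    obtain ⟨u, hu, rfl⟩ := h.trans e a c h3.symm h4.symm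
    obtain ⟨v, hv, e'⟩ := h.trans (u • a) (u • b) d (fun e => h1 (smul_left_cancel u e).symm) h2.symm
    exact ⟨⟨v * u, mul_mem (QN _ hv) (QN _ hu)⟩, (mul_smul v u a).trans (h.fix _ v hv), (mul_smul v u b).trans e'⟩
  have cj : ∀ g : G, g • x = x → ∀ a ∈ Q x, g * a * g⁻¹ ∈ Q x := fun g e a ha => by simpa [e] using h.conj g x a ha
  have hev : Even (Nat.card (Q x)) := by
    rw [card_eq_relIndex_mul (stabilizer G y), relIndex_stabilizer]
    refine Even.mul_right ?_ _
    have e : {e | ∃ a ∈ Q x, a • y = e} = {x}ᶜ := Set.ext fun e =>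
      ⟨fun ⟨a, ha, e'⟩ k => hne (smul_left_cancel a ((h.fix x a ha).trans (e'.trans k).symm)),
        fun he => h.trans x y e hne.symm he⟩
    have := Set.ncard_add_ncard_compl ({x} : Set X)
    rw [Set.ncard_singleton] at this
    rw [e, Nat.even_iff]
    rw [Nat.odd_iff] at ho
    omega
  obtain ⟨z, hz, z2, zc⟩ := ON.exists_central_inv (h.nil x) hev
  have zz := sq_of_orderOf z2
  have z1 : z ≠ 1 := fun e => by simp [e] at z2
  have nQ : normalizer (Q x : Set G) = stabilizer G x := le_antisymm (fun g hg => by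
    by_contra c
    exact z1 (conj_eq_one_iff.1 (h.reg x _ c _ ((mem_normalizer_iff.1 hg z).1 hz) (h.fix _ _ (h.conj g x z hz)))))
    fun g hg => Tech.mem_normalizer_of_forall (cj g hg)
  have bot : ∀ g : G, g ∉ stabilizer G x → (Q x).map (MulAut.conj g).toMonoidHom ⊓ stabilizer G x = ⊥ :=
    fun g hg => eq_bot_iff.2 fun a ⟨⟨b, hb, e⟩, ha⟩ => h.reg (g • x) x (Ne.symm hg) a (e ▸ h.conj g x b hb) ha
  obtain ⟨g, g1, g2⟩ := two (show y ≠ z • y from fun e => z1 (h.reg x y hne.symm z hz e.symm)) hne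
  let t : N := g * ⟨z, QN x hz⟩ * g⁻¹
  have tx : t • x = y := by rw [mul_smul, mul_smul, inv_smul_eq_iff.2 g1.symm]; exact g2
  have tt : t * t = 1 := by rw [conj_mul, conj_eq_one_iff]; exact Subtype.ext zz
  have ty : t • y = x := by rw [← tx, ← mul_smul, tt, one_smul]
  have t1 : t ∉ stabilizer N x := fun e => hne (e.symm.trans tx)
  have t2 : t ≠ 1 := fun e => t1 (e ▸ one_mem _)
  have se := (Cfsg.Agent.S1911.result (Q x) ⟨hev, fun g hg => by
    rw [eq_bot_iff.2 ((le_inf inf_le_right (inf_le_left.trans (h.fix x))).trans (bot g (nQ ▸ hg)).le)]; simp⟩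
    fun g hg => by rw [nQ, bot g (nQ ▸ hg)]; simp).resolve_left fun k =>
      t1 (show (t : G) ∈ stabilizer G x from nQ ▸ le_normalizer_of_normal (mem_top _))
  have od : Odd (Nat.card ↥(stabilizer N x ⊓ stabilizer N (t • x))) := by
    rw [stabilizer_smul_eq_stabilizer_map_conj]
    rw [nQ] at se
    exact se.2.2 t t1
  have hS : Cfsg.IsRankOneSetup N X x t ((Q x).subgroupOf N) :=
    ⟨is_two_pretransitive_iff.2 two, tt, t2, t1, fun a ha => h.fix x a ha, fun g hg a ha => cj g hg a ha,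
      eq_bot_iff.2 fun a ha => Subtype.ext (h.reg x y hne.symm a ha.1 (tx ▸ ha.2)),
      le_antisymm (sup_le (fun a ha => h.fix x a ha) inf_le_left) fun g hg => by
        obtain ⟨a, ha, e⟩ := h.trans x y (g • y) hne.symm fun e => hne (smul_left_cancel g (hg.trans e.symm))
        rw [← mul_inv_cancel_left (⟨a, QN x ha⟩ : N) g]
        refine mul_mem (mem_sup_left ha) (mem_sup_right ⟨(stabilizer N x).mul_mem
          ((stabilizer N x).inv_mem (h.fix x a ha)) hg, ?_⟩)
        rw [tx]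
        exact (mul_smul _ g y).trans (inv_smul_eq_iff.2 e.symm),
      by rwa [Nat.card_congr (subgroupOfEquivOfLe (QN x)).toEquiv], od⟩
  have EN : EE k l ≤ N := (h.EE_le_LL h.good_empty).trans (LL_le_iff.2 fun c _ => inf_le_left.trans (QN c))
  have ED : ∀ e (he : e ∈ EE k l), (⟨e, EN he⟩ : N) ∈ stabilizer N x ⊓ stabilizer N (t • x) := fun e he =>
    ⟨(h.EE_fix he).1, tx ▸ (h.EE_fix he).2⟩
  have : FaithfulSMul N X := ⟨fun {a b} e => Subtype.ext (inv_mul_eq_one.1 (h.faith _ fun c => by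
    rw [mul_smul, inv_smul_eq_iff]; exact (e c).symm))⟩
  have kx := (h.EE_fix (k_mem k l)).1
  obtain ⟨C, hC, -, nC⟩ := Cfsg.Agent.S1131.result hS ⟨⟨z, QN x hz⟩, ⟨_, QN x (cj k kx z hz)⟩,
    fun e => z1 (congrArg Subtype.val e), fun e => z1 (conj_eq_one_iff.1 (congrArg Subtype.val e)),
    fun e => z1 ((h.fpf (.inl (mem_zpowers k)) fun e => h.prime.one_lt.ne (by rw [← h.ok, e, orderOf_one])).le
      ⟨hz, mem_centralizer_singleton_iff.2 (eq_mul_inv_iff_mul_eq.1 (congrArg Subtype.val e))⟩),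
    Subtype.ext zz, Subtype.ext (show k * z * k⁻¹ * (k * z * k⁻¹) = 1 by rw [conj_mul, zz]; simp),
    Subtype.ext (zc _ (cj k kx z hz)).symm⟩
  have cen : ∀ κ ∈ Cfsg.invertedBy (stabilizer N x ⊓ stabilizer N (t • x)) t, EE k l ≤ centralizer {(κ : G)} :=
    fun κ hκ => by
      have key : ∀ a (ha : a ∈ EE k l), (t : G) * (κ * a * (κ : G)⁻¹ * a⁻¹) * (t : G)⁻¹ =
          ((κ : G) * a * (κ : G)⁻¹ * a⁻¹)⁻¹ := fun a ha => by
        have m : κ ∈ C := hC.ge hκ
        have := (hC.le (mul_mem m (nC _ (ED a ha) _ (inv_mem m)))).2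
        simpa [mul_assoc] using congrArg Subtype.val this
      have fin : ∀ a : G, ((κ : G) * a * (κ : G)⁻¹ * a⁻¹)⁻¹ = 1 → zpowers a ≤ centralizer {(κ : G)} := fun a e =>
        zpowers_le.2 (mem_centralizer_singleton_iff.2 (by
          rw [inv_eq_one, mul_inv_eq_one, mul_inv_eq_iff_eq_mul] at e; exact e.symm))
      have κy : (κ : G) • y = y := tx ▸ hκ.1.2
      have mk := mul_mem (h.normk κ hκ.1.1 κy k (mem_zpowers k)) (inv_mem (mem_zpowers k))
      have ml := mul_mem (h.norml κ hκ.1.1 κy l (mem_zpowers l)) (inv_mem (mem_zpowers l))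
      exact sup_le (fin k (h.disj _ (inv_mem mk) (key k (k_mem k l) ▸ h.swapk t tx ty _ mk)))
        (fin l (h.disj _ (key l (l_mem k l) ▸ h.swapl t tx ty _ ml) (inv_mem ml)))
  have th : ∀ e ∈ EE k l, Th x y (∅ : Set G) e → e ∈ centralizer {(t : G)} := fun e he ⟨c, _, c1, c2, c3⟩ => by
    obtain ⟨d, hd, e1⟩ := Cfsg.Agent.S1126.result hS {⟨e, EN he⟩} (Set.singleton_subset_iff.2 (ED e he))
      ⟨x, y, c, hne, c1.symm, c2.symm, by rintro _ rfl; exact ⟨(h.EE_fix he).1, (h.EE_fix he).2, c3⟩⟩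
    obtain ⟨⟨v, κ⟩, ⟨hv, hκ, rfl⟩, -⟩ := (Cfsg.Agent.S1124.result t (orderOf_eq_prime (by rw [pow_two, tt]) t2) _ od
      fun a ha => ⟨show (t * a * t⁻¹) • x = x by
        rw [mul_smul, mul_smul, inv_smul_eq_iff.2 ty.symm, ← tx, show a • t • x = t • x from ha.2, tx, ty],
        show (t * a * t⁻¹) • t • x = t • x by rw [mul_smul, inv_smul_smul, mul_smul, show a • x = x from ha.1]⟩).1 d hd
    have e2 : (κ : G) * e * (κ : G)⁻¹ = e := by
      rw [← mem_centralizer_singleton_iff.1 (cen κ hκ he), mul_inv_cancel_right]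
    have e3 : (v : G) ∈ centralizer {(t : G)} :=
      mem_centralizer_singleton_iff.2 (congrArg Subtype.val (mem_centralizer_singleton_iff.1 hv.2))
    have e4 : (v : G) * κ * e * ((v : G) * κ)⁻¹ ∈ centralizer {(t : G)} :=
      mem_centralizer_singleton_iff.2 (congrArg Subtype.val (e1 _ rfl))
    rwa [show (v : G) * κ * e * ((v : G) * κ)⁻¹ = v * (κ * e * (κ : G)⁻¹) * (v : G)⁻¹ by group, e2,
      mul_mem_cancel_right (inv_mem e3), mul_mem_cancel_left e3] at e4
  obtain ⟨e, he, e', he', h1, h2, h3, h4⟩ := h.two_lines h.good_empty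
  have := h.swapk t tx ty k (mem_zpowers k)
  rw [← mem_centralizer_singleton_iff.1 (h.EE_le he he' h1 h2 (th e he h3) (th e' he' h4) (k_mem k l)),
    mul_inv_cancel_right] at this
  exact h.prime.one_lt.ne (by rw [← h.ok, h.disj k (mem_zpowers k) this, orderOf_one])

end CfsgLib.OTI
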